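import Groth.Agent.ElkikTorsLib.Newton
import Mathlib.RingTheory.MvPolynomial.Localization
import Mathlib.RingTheory.Kaehler.Polynomial
import Mathlib.RingTheory.Smooth.Basic

/-!
# Equations of an algebra which is smooth away from `t`
-/

set_option autoImplicit false
set_option maxHeartbeats 1000000
universe u

open MvPolynomial Finset
open scoped TensorProduct

namespace ElkikTorsLib

variable {A : Type u} [CommRing A] (t : A) (R : Type u) [CommRing R] [Algebra A R] [IsLocalization.Away t R] {n : ℕ}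

attribute [local instance] MvPolynomial.algebraMvPolynomial

/-- Clearing denominators. -/
theorem exists_clear (p : MvPolynomial (Fin n) R) :
    ∃ (k : ℕ) (q : MvPolynomial (Fin n) A), C (algebraMap A R t ^ k) * p = MvPolynomial.map (algebraMap A R) q := by
  obtain ⟨⟨q, s⟩, h⟩ := IsLocalization.surj ((Submonoid.powers t).map (C : A →+* MvPolynomial (Fin n) A)) p
  obtain ⟨_, ⟨k, rfl⟩, hk⟩ := s.2
  refine ⟨k, q, ?_⟩
  dsimp only at h
  rw [← hk] at h
  rw [mul_comm, ← map_pow, ← MvPolynomial.map_C (algebraMap A R)]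
  exact h

/-- Membership in an extended ideal. -/
theorem exists_mem_of_mem_map (J : Ideal (MvPolynomial (Fin n) A)) {q : MvPolynomial (Fin n) A}
    (h : MvPolynomial.map (algebraMap A R) q ∈ J.map (MvPolynomial.map (algebraMap A R))) :
    ∃ k, C (t ^ k) * q ∈ J := by
  obtain ⟨_, ⟨_, ⟨k, rfl⟩, rfl⟩, hk⟩ := (IsLocalization.algebraMap_mem_map_algebraMap_iff
    ((Submonoid.powers t).map (C : A →+* MvPolynomial (Fin n) A)) (MvPolynomial (Fin n) R) J q).1 h
  exact ⟨k, hk⟩

/-- Equations with a splitting of their conormal module. -/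
theorem exists_data {B : Type u} [CommRing B] [Algebra A B] (D : Type u) [CommRing D] [Algebra R D] [Algebra A D]
    [Algebra B D] [IsScalarTower A B D] [IsScalarTower A R D]
    [IsLocalization (Algebra.algebraMapSubmonoid B (Submonoid.powers t)) D] [Algebra.Smooth R D]
    (π : MvPolynomial (Fin n) A →ₐ[A] B) (hπ : Function.Surjective π) :
    ∃ (m : ℕ) (f : Fin m → MvPolynomial (Fin n) A) (S : Fin n → Fin m → MvPolynomial (Fin n) A) (N : ℕ),
      (∀ i, π (f i) = 0) ∧
      (∀ i, (∑ k, endMat f S i k * f k) - C (t ^ N) * f i ∈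
        Ideal.span (Set.range f) * Ideal.span (Set.range f)) ∧
      ∀ g, π g = 0 → ∃ M, C (t ^ M) * g ∈ Ideal.span (Set.range f) := by
  classical
  let φ : MvPolynomial (Fin n) A →+* MvPolynomial (Fin n) R := MvPolynomial.map (algebraMap A R)
  let u := algebraMap A R t
  have hu : ∀ k, IsUnit (u ^ k) := fun k => (IsLocalization.Away.algebraMap_isUnit t).pow k
  let ψ : (MvPolynomial (Fin n) R) →ₐ[R] D := aeval fun j => algebraMap B D (π (X j))
  have hψ : ∀ q, ψ (φ q) = algebraMap B D (π q) := fun q => by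
    have h : ψ.toRingHom.comp φ = (algebraMap B D).comp π.toRingHom :=
      MvPolynomial.ringHom_ext (fun r => by simp [φ, ψ, ← IsScalarTower.algebraMap_apply]) (fun j => by simp [φ, ψ])
    exact RingHom.congr_fun h q
  have hψs : Function.Surjective ψ := fun c => by
    obtain ⟨⟨b, ⟨_, _, ⟨k, rfl⟩, rfl⟩⟩, h⟩ := IsLocalization.surj (Algebra.algebraMapSubmonoid B (Submonoid.powers t)) c
    obtain ⟨q, rfl⟩ := hπ b
    refine ⟨C ((hu k).unit⁻¹ : Rˣ).1 * φ q, ?_⟩
    dsimp only at h
    rw [map_mul, hψ, ← h, ← IsScalarTower.algebraMap_apply, IsScalarTower.algebraMap_apply A R D, map_pow,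
      algHom_C, mul_left_comm, ← map_mul]
    rw [IsUnit.val_inv_mul, map_one, mul_one]
  have hker : ∀ g, ψ g = 0 → ∃ k q, π q = 0 ∧ C (u ^ k) * g = φ q := fun g hg => by
    obtain ⟨k, q, hq⟩ := exists_clear t R g
    have h0 : algebraMap B D (π q) = 0 := by rw [← hψ, ← show C (u ^ k) * g = φ q from hq, map_mul, hg, mul_zero]
    obtain ⟨⟨_, _, ⟨l, rfl⟩, rfl⟩, hl⟩ := (IsLocalization.map_eq_zero_iff
      (Algebra.algebraMapSubmonoid B (Submonoid.powers t)) D _).1 h0
    refine ⟨l + k, C (t ^ l) * q, ?_, ?_⟩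
    · rw [map_mul, ← MvPolynomial.algebraMap_eq, AlgHom.commutes]; exact hl
    · rw [map_mul, pow_add, map_mul, mul_assoc, hq]
      simp [φ, u]
  -- generators of the kernel, taken integral
  haveI : Algebra.FinitePresentation R D := Algebra.Smooth.finitePresentation
  obtain ⟨G, hG⟩ := Algebra.FinitePresentation.ker_fG_of_surjective ψ hψs
  choose kk qq hqq₀ hqq using fun g : G => hker g.1 (by
    have : g.1 ∈ RingHom.ker ψ.toRingHom := hG ▸ Submodule.subset_span g.2
    exact this)
  let e := G.equivFin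
  let f : Fin G.card → MvPolynomial (Fin n) A := fun i => qq (e.symm i)
  have hfK : ∀ i, ψ (φ (f i)) = 0 := fun i => by rw [hψ, hqq₀, map_zero]
  have hspan : RingHom.ker ψ.toRingHom = (Ideal.span (Set.range f)).map φ := by
    refine le_antisymm ?_ ?_
    · rw [← hG, Submodule.span_le]
      intro g hg
      have h := hqq ⟨g, hg⟩
      have hmem : φ (qq ⟨g, hg⟩) ∈ (Ideal.span (Set.range f)).map φ :=
        Ideal.mem_map_of_mem φ (Ideal.subset_span ⟨e ⟨g, hg⟩, by simp [f]⟩)
      rw [← h] at hmem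
      exact ((Ideal.unit_mul_mem_iff_mem _ (((hu _).map C))).1 hmem)
    · rw [Ideal.map_le_iff_le_comap, Ideal.span_le]
      rintro _ ⟨i, rfl⟩
      exact hfK i
  -- the splitting
  letI : Algebra (MvPolynomial (Fin n) R) D := ψ.toRingHom.toAlgebra
  haveI : IsScalarTower R (MvPolynomial (Fin n) R) D := IsScalarTower.of_algebraMap_eq' ψ.comp_algebraMap.symm
  obtain ⟨l, hl⟩ := (Algebra.FormallySmooth.iff_split_injection (R := R) (P := MvPolynomial (Fin n) R) (A := D) hψs).1 inferInstance
  let K := RingHom.ker (algebraMap (MvPolynomial (Fin n) R) D)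
  choose σ hσ using fun j : Fin n => Ideal.toCotangent_surjective K (l ((1 : D) ⊗ₜ[(MvPolynomial (Fin n) R)] KaehlerDifferential.D R (MvPolynomial (Fin n) R) (X j)))
  have hsplit : ∀ g ∈ K, (∑ j, pderiv j g * (σ j : (MvPolynomial (Fin n) R))) - g ∈ K ^ 2 := fun g hg => by
    have h1 : KaehlerDifferential.D R (MvPolynomial (Fin n) R) g = ∑ j, pderiv j g • KaehlerDifferential.D R (MvPolynomial (Fin n) R) (X j) := by
      conv_lhs => rw [← (KaehlerDifferential.mvPolynomialBasis R (Fin n)).sum_repr (KaehlerDifferential.D R (MvPolynomial (Fin n) R) g)]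
      simp
    have h2 := LinearMap.congr_fun hl (K.toCotangent ⟨g, hg⟩)
    rw [LinearMap.comp_apply, KaehlerDifferential.kerCotangentToTensor_toCotangent, LinearMap.id_apply, h1,
      TensorProduct.tmul_sum, map_sum] at h2
    simp only [TensorProduct.tmul_smul, map_smul, ← hσ] at h2
    simp only [← LinearMap.map_smul_of_tower, ← map_sum] at h2
    have h3 := (Ideal.toCotangent_eq K).1 h2
    simpa using h3
  have hσK : ∀ j, ∃ s : Fin G.card → (MvPolynomial (Fin n) R), ∑ k, s k * φ (f k) = σ j := fun j => by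
    have h : (σ j : (MvPolynomial (Fin n) R)) ∈ Ideal.span (Set.range fun k => φ (f k)) := by
      have h' : (σ j : (MvPolynomial (Fin n) R)) ∈ RingHom.ker ψ.toRingHom := (σ j).2
      rw [hspan, Ideal.map_span, ← Set.range_comp] at h'
      exact h'
    exact Ideal.mem_span_range_iff_exists_fun.1 h
  choose s hs using hσK
  choose ks qs hqs using fun j k => exists_clear t R (s j k)
  let N₁ := univ.sup fun x : Fin n × Fin G.card => ks x.1 x.2
  let S₁ : Fin n → Fin G.card → MvPolynomial (Fin n) A := fun j k => C (t ^ (N₁ - ks j k)) * qs j k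
  have hS₁ : ∀ j k, φ (S₁ j k) = C (u ^ N₁) * s j k := fun j k => by
    have hle : ks j k ≤ N₁ := Finset.le_sup (f := fun x : Fin n × Fin G.card => ks x.1 x.2) (mem_univ (j, k))
    rw [map_mul, show φ (qs j k) = _ from (hqs j k).symm, ← mul_assoc]
    simp only [φ, u, MvPolynomial.map_C, map_pow, ← pow_add, Nat.sub_add_cancel hle]
  let J := Ideal.span (Set.range f)
  have hM : ∀ i, ∃ M, C (t ^ M) * ((∑ k, endMat f S₁ i k * f k) - C (t ^ N₁) * f i) ∈ J * J := fun i => by
    refine exists_mem_of_mem_map t R _ ?_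
    have h := Ideal.mul_mem_left _ (C (u ^ N₁)) (hsplit (φ (f i)) (hfK i))
    have hK : K ^ 2 = (J * J).map φ := by
      rw [pow_two, Ideal.map_mul, show K = J.map φ from hspan]
    have h : C (u ^ N₁) * (∑ j, pderiv j (φ (f i)) * (σ j : MvPolynomial (Fin n) R) - φ (f i)) ∈ (J * J).map φ :=
      hK ▸ h
    convert h using 1
    simp only [endMat, map_sub, map_sum, map_mul, sum_mul, mul_sub, mul_sum]
    congr 1
    · rw [sum_comm]
      refine sum_congr rfl fun j _ => ?_
      rw [← hs, mul_sum, mul_sum]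
      refine sum_congr rfl fun k _ => ?_
      rw [show MvPolynomial.map (algebraMap A R) (S₁ j k) = C (u ^ N₁) * s j k from hS₁ j k,
        ← MvPolynomial.pderiv_map]
      ring
    · simp [φ, u]
  choose M hM using hM
  let M₀ := univ.sup M
  refine ⟨G.card, f, fun j k => C (t ^ M₀) * S₁ j k, M₀ + N₁, fun i => hqq₀ _, fun i => ?_, fun g hg => ?_⟩
  · have hle : M i ≤ M₀ := Finset.le_sup (mem_univ i)
    have h := (J * J).mul_mem_left (C (t ^ (M₀ - M i))) (hM i)
    rw [← mul_assoc, ← map_mul, ← pow_add, Nat.sub_add_cancel hle] at h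
    convert h using 1
    simp only [endMat, mul_sub, mul_sum, sum_mul, pow_add, map_mul]
    congr 1
    · exact sum_congr rfl fun k _ => sum_congr rfl fun j _ => by ring
    · ring
  · refine exists_mem_of_mem_map t R _ ?_
    rw [← hspan]
    show ψ (φ g) = 0
    rw [hψ, hg, map_zero]

end ElkikTorsLib
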