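import Groth.Agent.ElkikTorsLib.Data
import Mathlib.RingTheory.AdicCompletion.Algebra

/-!
# Approximation of completed points along a henselian pair with bounded torsion
-/

set_option autoImplicit false
set_option maxHeartbeats 1000000
universe u

open MvPolynomial

namespace ElkikTorsLib

theorem exists_approx (A : Type u) [CommRing A] (t : A) [HenselianRing A (Ideal.span {t})]
    (hbd : ∃ N : ℕ, ∀ a : A, (∃ m : ℕ, t ^ m * a = 0) → t ^ N * a = 0)
    (B : Type u) [CommRing B] [Algebra A B] [Algebra.FiniteType A B]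
    (hsm : Algebra.Smooth (Localization.Away t)
      (Localization (Algebra.algebraMapSubmonoid B (Submonoid.powers t))))
    (k : ℕ) (σ : B →ₐ[A] AdicCompletion (Ideal.span {t}) A) :
    ∃ τ : B →ₐ[A] A,
      (Ideal.Quotient.mkₐ A (Ideal.span {t} ^ k)).comp τ =
        (AdicCompletion.evalₐ (Ideal.span {t}) k).comp σ := by
  obtain ⟨N₀, hN₀⟩ := hbd
  haveI := hsm
  obtain ⟨n, π, hπ⟩ := Algebra.FiniteType.iff_quotient_mvPolynomial''.1 (inferInstance : Algebra.FiniteType A B)
  obtain ⟨m, f, S, N, hf, hE, hI⟩ := exists_data t (Localization.Away t)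
    (Localization (Algebra.algebraMapSubmonoid B (Submonoid.powers t))) π hπ
  let b := 2 * N + N₀ + 1 + k
  let I := Ideal.span {t}
  choose c hc using fun j => AdicCompletion.mk_surjective I A (σ (π (X j)))
  let a : Fin n → A := fun j => (c j).val b
  have hσa : ((AdicCompletion.evalₐ I b).comp σ).comp π = (Ideal.Quotient.mkₐ A (I ^ b)).comp (aeval a) :=
    MvPolynomial.algHom_ext fun j => by simp [a, ← hc]
  have hdvd : ∀ g, π g = 0 → t ^ b ∣ aeval a g := fun g hg => by
    have h := DFunLike.congr_fun hσa g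
    simp only [AlgHom.comp_apply, hg, map_zero, Ideal.Quotient.mkₐ_eq_mk] at h
    rw [eq_comm, Ideal.Quotient.eq_zero_iff_mem, Ideal.span_singleton_pow, Ideal.mem_span_singleton] at h
    exact h
  obtain ⟨x, hx, hxa⟩ := exists_zero_of_approx hN₀ hE (b := b) (by omega) a fun i => hdvd _ (hf i)
  have hker : ∀ g, π g = 0 → aeval x g = 0 := fun g hg => by
    obtain ⟨M, hM⟩ := hI g hg
    have h0 : Ideal.span (Set.range f) ≤ RingHom.ker (aeval x : MvPolynomial (Fin n) A →ₐ[A] A) :=
      Ideal.span_le.2 (by rintro _ ⟨i, rfl⟩; exact hx i)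
    have h1 : t ^ M * aeval x g = 0 := by simpa using h0 hM
    have h2 : aeval x g - aeval a g ∈ Ideal.span {t ^ (b - N)} :=
      EtOutsideLib.eval_sub_mem _ x a (fun j => Ideal.mem_span_singleton.2 (hxa j)) g
    have h3 : t ^ (b - N) ∣ aeval x g := by
      simpa using dvd_add (Ideal.mem_span_singleton.1 h2) ((pow_dvd_pow t (Nat.sub_le b N)).trans (hdvd g hg))
    obtain ⟨w, hw⟩ := h3
    have h4 : t ^ N₀ * w = 0 := hN₀ w ⟨M + (b - N), by rw [pow_add, mul_assoc, ← hw]; exact h1⟩
    rw [hw, show b - N = (b - N - N₀) + N₀ by omega, pow_add, mul_assoc, h4, mul_zero]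
  let τ : B →ₐ[A] A := AlgHom.liftOfSurjective π hπ (aeval x) fun g hg => hker g hg
  refine ⟨τ, ?_⟩
  have hτ : τ.comp π = aeval x := AlgHom.liftOfSurjective_comp π hπ _ _
  refine AlgHom.ext fun y => ?_
  obtain ⟨g, rfl⟩ := hπ y
  refine DFunLike.congr_fun (f := ((Ideal.Quotient.mkₐ A (I ^ k)).comp τ).comp π)
    (g := ((AdicCompletion.evalₐ I k).comp σ).comp π) (MvPolynomial.algHom_ext fun j => ?_) g
  rw [AlgHom.comp_assoc, hτ]
  simp only [AlgHom.comp_apply, aeval_X, ← hc, AdicCompletion.evalₐ_mk, Ideal.Quotient.mkₐ_eq_mk]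
  rw [Ideal.Quotient.eq]
  have h1 := (c j).property (show k ≤ b by omega)
  rw [SModEq.sub_mem, smul_eq_mul, Ideal.mul_top] at h1
  have h2 : x j - a j ∈ I ^ k := by
    rw [Ideal.span_singleton_pow, Ideal.mem_span_singleton]
    exact (pow_dvd_pow t (show k ≤ b - N by omega)).trans (hxa j)
  simpa [a] using sub_mem h2 h1

end ElkikTorsLib
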