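import Groth.Agent.EtOutsideLib.Newton

/-!
# Newton's lemma over a henselian pair with bounded torsion

A system `f` whose conormal module is, up to `t ^ N`, a direct summand of the free module of differentials has a
zero near every approximate zero.
-/

set_option autoImplicit false
set_option maxHeartbeats 1000000
universe u

open MvPolynomial Finset

namespace ElkikTorsLib

variable {A : Type u} [CommRing A] {n m : ℕ}

/-- The endomorphism of the relations given by a splitting `S`. -/
noncomputable def endMat (f : Fin m → MvPolynomial (Fin n) A) (S : Fin n → Fin m → MvPolynomial (Fin n) A)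
    (i k : Fin m) : MvPolynomial (Fin n) A :=
  ∑ j, pderiv j (f i) * S j k

theorem pderiv_mem_of_mem_sq {J : Ideal (MvPolynomial (Fin n) A)} {q : MvPolynomial (Fin n) A}
    (hq : q ∈ J * J) (l : Fin n) : pderiv l q ∈ J := by
  refine Submodule.mul_induction_on hq (fun u hu v hv => ?_) fun u v hu hv => by rw [map_add]; exact add_mem hu hv
  rw [pderiv_mul]
  exact add_mem (J.mul_mem_left _ hv) (J.mul_mem_right _ hu)

/-- The endomorphism is idempotent up to `t ^ N` on the zero set. -/
theorem endMat_sq {f : Fin m → MvPolynomial (Fin n) A} {S : Fin n → Fin m → MvPolynomial (Fin n) A} {c : A}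
    (hE : ∀ i, (∑ k, endMat f S i k * f k) - C c * f i ∈ Ideal.span (Set.range f) * Ideal.span (Set.range f))
    (i l : Fin m) :
    (∑ k, endMat f S i k * endMat f S k l) - C c * endMat f S i l ∈ Ideal.span (Set.range f) := by
  let J := Ideal.span (Set.range f)
  have hf : ∀ k, f k ∈ J := fun k => Ideal.subset_span ⟨k, rfl⟩
  have key : ∀ j, (∑ k, endMat f S i k * pderiv j (f k)) - C c * pderiv j (f i) ∈ J := fun j => by
    have h1 := pderiv_mem_of_mem_sq (hE i) j
    rw [map_sub, map_sum, pderiv_mul, pderiv_C, zero_mul, zero_add] at h1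
    have h2 : (∑ k, pderiv j (endMat f S i k * f k)) - (∑ k, endMat f S i k * pderiv j (f k)) ∈ J := by
      rw [← sum_sub_distrib]
      refine sum_mem fun k _ => ?_
      rw [pderiv_mul, add_sub_cancel_right]
      exact J.mul_mem_left _ (hf k)
    convert sub_mem h1 h2 using 1
    ring
  have h3 : (∑ k, endMat f S i k * endMat f S k l) - C c * endMat f S i l =
      ∑ j, ((∑ k, endMat f S i k * pderiv j (f k)) - C c * pderiv j (f i)) * S j l := by
    simp only [sub_mul, sum_sub_distrib, sum_mul, mul_assoc, ← mul_sum]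
    rw [sum_comm]
    congr 1
    exact sum_congr rfl fun k _ => by rw [← mul_sum]; rfl
  rw [h3]
  exact sum_mem fun j _ => J.mul_mem_right _ (key j)

/-- Approximate zeros are close to zeros. -/
theorem exists_zero_of_approx {t : A} [HenselianRing A (Ideal.span {t})] {N₀ : ℕ}
    (hbd : ∀ a : A, (∃ l : ℕ, t ^ l * a = 0) → t ^ N₀ * a = 0)
    {f : Fin m → MvPolynomial (Fin n) A} {S : Fin n → Fin m → MvPolynomial (Fin n) A} {N : ℕ}
    (hE : ∀ i, (∑ k, endMat f S i k * f k) - C (t ^ N) * f i ∈
      Ideal.span (Set.range f) * Ideal.span (Set.range f))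
    {b : ℕ} (hb : 2 * N + N₀ + 1 ≤ b) (a : Fin n → A) (ha : ∀ i, t ^ b ∣ aeval a (f i)) :
    ∃ x : Fin n → A, (∀ i, aeval x (f i) = 0) ∧ ∀ j, t ^ (b - N) ∣ x j - a j := by
  classical
  choose e he using ha
  let s := t ^ (b - N)
  let L : Fin n → MvPolynomial (Fin m) A := fun j => ∑ k, C (aeval a (S j k)) * X k
  let φ : MvPolynomial (Fin n) A →ₐ[A] MvPolynomial (Fin m) A := aeval fun j => C (a j) + C s * L j
  have hcomp : (aeval L).comp (aeval fun j => C (a j) + C s * X j) = φ :=
    MvPolynomial.algHom_ext fun j => by simp [φ]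
  have taylor : ∀ p, ∃ q, φ p = C (aeval a p) + C s * (∑ j, C (aeval a (pderiv j p)) * L j) + C s ^ 2 * q := fun p => by
    obtain ⟨q, -, hq⟩ := EtOutsideLib.exists_taylor a s p
    refine ⟨aeval L q, ?_⟩
    rw [← hcomp, AlgHom.comp_apply, hq]
    simp
  have taylor1 : ∀ p, ∃ r, φ p = C (aeval a p) + C s * r := fun p => by
    obtain ⟨q, hq⟩ := taylor p
    exact ⟨(∑ j, C (aeval a (pderiv j p)) * L j) + C s * q, by rw [hq]; ring⟩
  choose q hq using fun i => taylor (f i)
  choose r hr using fun i k => taylor1 (endMat f S i k)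
  have hJS : ∀ i, ∑ j, C (aeval a (pderiv j (f i))) * L j = ∑ k, C (aeval a (endMat f S i k)) * X k := fun i => by
    simp only [L, endMat, map_sum, map_mul, mul_sum, sum_mul, mul_assoc]
    exact sum_comm
  let P : Fin m → MvPolynomial (Fin m) A := fun i =>
    C (e i) + X i + C (t ^ (b - 2 * N)) * (q i - ∑ k, r i k * X k)
  have key : ∀ i, φ (f i) - ∑ k, φ (endMat f S i k) * (C s * X k) + C (t ^ N) * (C s * X i) = C (t ^ b) * P i := fun i => by
    have h1 : t ^ b = t ^ N * s := by rw [← pow_add, show N + (b - N) = b by omega]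
    have h2 : t ^ b * t ^ (b - 2 * N) = s * s := by rw [← pow_add, ← pow_add]; congr 1; omega
    have h3 : ∑ k, φ (endMat f S i k) * (C s * X k) =
        C s * (∑ k, C (aeval a (endMat f S i k)) * X k) + C s * C s * ∑ k, r i k * X k := by
      rw [mul_sum, mul_sum, ← sum_add_distrib]
      exact sum_congr rfl fun k _ => by rw [hr]; ring
    rw [hq, h3, hJS, he]
    simp only [P, mul_add, ← mul_assoc, ← map_mul, h2]
    simp only [map_mul, h1]
    ring
  obtain ⟨y, hy, -⟩ := HenselLib.exists_root_system (I := Ideal.span {t}) P (fun i => -e i)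
    (fun i => by
      refine Ideal.mem_span_singleton.2 ?_
      simp only [P, map_add, map_mul, eval_C, eval_X, add_neg_cancel, zero_add]
      exact dvd_mul_of_dvd_left (dvd_pow_self t (by omega)) _)
    (by
      rw [RingHom.map_det, RingHom.map_det]
      have : (Ideal.Quotient.mk (Ideal.span {t})).mapMatrix ((eval fun i => -e i).mapMatrix
          (Matrix.of fun i j => pderiv i (P j))) = 1 := by
        ext i j
        have h0 : Ideal.Quotient.mk (Ideal.span {t}) (t ^ (b - 2 * N)) = 0 :=
          Ideal.Quotient.eq_zero_iff_mem.2 (Ideal.mem_span_singleton.2 (dvd_pow_self t (by omega)))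
        simp only [RingHom.mapMatrix_apply, Matrix.map_apply, Matrix.of_apply, P, map_add, pderiv_C, pderiv_X,
          pderiv_mul, zero_mul, zero_add, map_mul, eval_C, h0, add_zero]
        by_cases hij : i = j
        · subst hij; simp
        · simp [Matrix.one_apply_ne hij, Pi.single_eq_of_ne (Ne.symm hij)]
      rw [this, Matrix.det_one]; exact isUnit_one)
  let x : Fin n → A := fun j => a j + s * ∑ k, aeval a (S j k) * y k
  refine ⟨x, ?_, fun j => ⟨∑ k, aeval a (S j k) * y k, add_sub_cancel_left _ _⟩⟩
  have hx : ∀ p, aeval y (φ p) = aeval x p := fun p => by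
    rw [← AlgHom.comp_apply]
    congr 1
    exact MvPolynomial.algHom_ext fun j => by simp [φ, L, x]
  have hPy : ∀ i, aeval y (P i) = 0 := fun i => by
    have h := RingHom.congr_fun (MvPolynomial.coe_aeval_eq_eval y) (P i)
    exact h.trans (hy i)
  let v : Fin m → A := fun i => aeval x (f i)
  let E : Fin m → Fin m → A := fun i k => aeval x (endMat f S i k)
  have hv : ∀ i, v i = (∑ k, E i k * (s * y k)) - t ^ N * (s * y i) := fun i => by
    have h := congrArg (aeval y) (key i)
    simp only [map_add, map_sub, map_sum, map_mul, hPy, mul_zero, hx, aeval_C, aeval_X, Algebra.algebraMap_self,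
      RingHom.id_apply, map_pow] at h
    show aeval x (f i) = _
    linear_combination h
  let G := Ideal.span (Set.range v)
  have hvG : ∀ i, v i ∈ G := fun i => Ideal.subset_span ⟨i, rfl⟩
  have hGs : G ≤ Ideal.span {s} := Ideal.span_le.2 <| by
    rintro _ ⟨i, rfl⟩
    rw [SetLike.mem_coe, hv]
    exact sub_mem (sum_mem fun k _ => Ideal.mem_span_singleton.2 ⟨E i k * y k, by ring⟩)
      (Ideal.mem_span_singleton.2 ⟨t ^ N * y i, by ring⟩)
  have hmap : (Ideal.span (Set.range f)).map (aeval x : MvPolynomial (Fin n) A →ₐ[A] A).toRingHom = G := by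
    rw [Ideal.map_span, ← Set.range_comp]
    rfl
  have hGG : G * G ≤ Ideal.span {s} * G := Ideal.mul_mono_left hGs
  have hsG : Ideal.span {t ^ N} * G ≤ Ideal.span {s} * G := by
    rw [Ideal.span_singleton_mul_le_iff]
    intro z hz
    refine (Submodule.span_le (p := Submodule.comap (LinearMap.mulLeft A (t ^ N)) (Ideal.span {s} * G))).2 ?_ hz
    rintro _ ⟨i, rfl⟩
    show t ^ N * v i ∈ Ideal.span {s} * G
    have h1 : (∑ k, E i k * v k) - t ^ N * v i ∈ G * G := by
      have := Ideal.mem_map_of_mem (aeval x : MvPolynomial (Fin n) A →ₐ[A] A).toRingHom (hE i)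
      rw [Ideal.map_mul, hmap] at this
      simpa [v, E] using this
    have h2 : ∀ l, (∑ k, E i k * E k l) - t ^ N * E i l ∈ G := fun l => by
      have := Ideal.mem_map_of_mem (aeval x : MvPolynomial (Fin n) A →ₐ[A] A).toRingHom (endMat_sq hE i l)
      rw [hmap] at this
      simpa [E] using this
    have h3 : ∑ k, E i k * v k = ∑ l, (s * y l) * ((∑ k, E i k * E k l) - t ^ N * E i l) := by
      simp only [hv, mul_sub, sum_sub_distrib, mul_sum]
      congr 1
      · rw [sum_comm]
        exact sum_congr rfl fun l _ => sum_congr rfl fun k _ => by ring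
      · exact sum_congr rfl fun l _ => by ring
    have h4 : ∑ k, E i k * v k ∈ Ideal.span {s} * G := by
      rw [h3]
      exact sum_mem fun l _ => Ideal.mul_mem_mul (Ideal.mem_span_singleton.2 ⟨y l, rfl⟩) (h2 l)
    simpa using sub_mem h4 (hGG h1)
  have hzero : Ideal.span {t ^ N} * G = ⊥ := by
    refine Submodule.eq_bot_of_le_smul_of_le_jacobson_bot (Ideal.span {t}) _ ?_ ?_ HenselianRing.jac
    · exact Submodule.FG.mul (Submodule.fg_span_singleton _) (Submodule.fg_span (Set.finite_range v))
    · refine hsG.trans ?_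
      rw [smul_eq_mul, ← mul_assoc, Ideal.span_singleton_mul_span_singleton, ← pow_succ']
      exact Ideal.mul_mono_left (Ideal.span_singleton_le_span_singleton.2 (pow_dvd_pow t (by omega)))
  intro i
  obtain ⟨w, hw⟩ := Ideal.mem_span_singleton.1 (hGs (hvG i))
  have h5 : t ^ N * v i = 0 := by
    rw [← Ideal.mem_bot, ← hzero]
    exact Ideal.mul_mem_mul (Ideal.mem_span_singleton_self _) (hvG i)
  have h6 : t ^ N₀ * w = 0 := hbd w ⟨N + (b - N), by rw [pow_add]; rw [hw] at h5; linear_combination h5⟩
  show v i = 0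
  rw [hw, show s = t ^ (b - N - N₀) * t ^ N₀ from (congrArg (t ^ ·) (show b - N = b - N - N₀ + N₀ by omega)).trans (pow_add _ _ _)]
  linear_combination t ^ (b - N - N₀) * h6

end ElkikTorsLib
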