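import Groth.Agent.ElkikTorsLib.Main
import Groth.Agent.S6004
import Groth.Agent.S18860

/-!
# Sections over a completion with bounded torsion
-/

set_option autoImplicit false
set_option maxHeartbeats 1000000
set_option backward.isDefEq.respectTransparency false
universe u

open CategoryTheory AlgebraicGeometry MvPolynomial

namespace ElkikTorsLib

theorem exists_retraction (A : Type u) [CommRing A] (t : A) [HenselianRing A (Ideal.span {t})]
    (hbd : ∃ N : ℕ, ∀ a : A, (∃ m : ℕ, t ^ m * a = 0) → t ^ N * a = 0)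
    (C : Type u) [CommRing C] [Algebra (Localization.Away t) C] [Algebra.Smooth (Localization.Away t) C]
    (σ : C →+* Localization.Away (algebraMap A (AdicCompletion (Ideal.span {t}) A) t))
    (hσ : σ.comp (algebraMap (Localization.Away t) C) =
      Localization.awayMap (algebraMap A (AdicCompletion (Ideal.span {t}) A)) t) :
    ∃ τ : C →+* Localization.Away t, τ.comp (algebraMap (Localization.Away t) C) = RingHom.id _ := by
  classical
  let R := Localization.Away t
  let Â := AdicCompletion (Ideal.span {t}) A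
  let D := Localization.Away (algebraMap A Â t)
  letI : Algebra A C := ((algebraMap R C).comp (algebraMap A R)).toAlgebra
  haveI : IsScalarTower A R C := IsScalarTower.of_algebraMap_eq' rfl
  have hσA : ∀ a : A, σ (algebraMap A C a) = algebraMap Â D (algebraMap A Â a) := fun a => by
    rw [IsScalarTower.algebraMap_apply A R C, ← RingHom.comp_apply σ, hσ]
    exact IsLocalization.map_eq _ a
  obtain ⟨n, π, hπ⟩ := Algebra.FiniteType.iff_quotient_mvPolynomial''.1 (inferInstance : Algebra.FiniteType R C)
  have hsurj : ∀ j : Fin n, ∃ (k : ℕ) (a : Â), σ (π (X j)) * algebraMap Â D (algebraMap A Â t) ^ k =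
      algebraMap Â D a := fun j => by
    obtain ⟨⟨a, ⟨_, k, rfl⟩⟩, h⟩ := IsLocalization.surj (Submonoid.powers (algebraMap A Â t)) (σ (π (X j)))
    exact ⟨k, a, by simpa [map_pow] using h⟩
  choose k a ha using hsurj
  let c : Fin n → C := fun j => π (X j) * algebraMap A C t ^ k j
  let v : MvPolynomial (Fin n) A →ₐ[A] C × Â := aeval fun j => (c j, a j)
  let B := v.range
  haveI : Algebra.FiniteType A ↥B := Algebra.FiniteType.of_surjective v.rangeRestrict v.rangeRestrict_surjective
  let p₁ : ↥B →ₐ[A] C := (AlgHom.fst A C Â).comp B.val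
  let p₂ : ↥B →ₐ[A] Â := (AlgHom.snd A C Â).comp B.val
  have hcompat : ∀ b : ↥B, σ (p₁ b) = algebraMap Â D (p₂ b) := by
    intro b
    obtain ⟨g, rfl⟩ := v.rangeRestrict_surjective b
    have h : (σ.comp p₁.toRingHom).comp v.rangeRestrict.toRingHom =
        ((algebraMap Â D).comp p₂.toRingHom).comp v.rangeRestrict.toRingHom :=
      MvPolynomial.ringHom_ext
        (fun r => by
          show σ (v (MvPolynomial.C r)).1 = algebraMap Â D (v (MvPolynomial.C r)).2
          rw [show v (MvPolynomial.C r) = algebraMap A (C × Â) r from v.commutes r]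
          exact hσA r)
        (fun j => by
          show σ (v (X j)).1 = algebraMap Â D (v (X j)).2
          rw [show v (X j) = (c j, a j) from aeval_X _ j, ← ha, map_mul, map_pow, hσA])
    exact RingHom.congr_fun h g
  letI : Algebra ↥B C := p₁.toRingHom.toAlgebra
  haveI : IsScalarTower A ↥B C := IsScalarTower.of_algebraMap_eq' p₁.comp_algebraMap.symm
  have hu : IsUnit (algebraMap A C t) := by
    rw [IsScalarTower.algebraMap_apply A R C]
    exact (IsLocalization.Away.algebraMap_isUnit t).map _
  let M := Algebra.algebraMapSubmonoid ↥B (Submonoid.powers t)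
  haveI hloc : IsLocalization M C := by
    refine ⟨?_, ?_, ?_⟩
    · rintro ⟨_, _, ⟨m, rfl⟩, rfl⟩
      rw [← IsScalarTower.algebraMap_apply A ↥B C, map_pow]
      exact hu.pow m
    · intro z
      obtain ⟨g, rfl⟩ := hπ z
      suffices h : ∃ (b : ↥B) (m : ℕ), π g * algebraMap A C t ^ m = p₁ b by
        obtain ⟨b, m, hb⟩ := h
        refine ⟨(b, ⟨algebraMap A ↥B (t ^ m), t ^ m, ⟨m, rfl⟩, rfl⟩), ?_⟩
        rw [← IsScalarTower.algebraMap_apply A ↥B C, map_pow]
        exact hb
      induction g using MvPolynomial.induction_on with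
      | C r =>
        obtain ⟨⟨x, ⟨_, m, rfl⟩⟩, h⟩ := IsLocalization.surj (Submonoid.powers t) r
        refine ⟨algebraMap A ↥B x, m, ?_⟩
        rw [π.commutes' r |> fun e => (show π (MvPolynomial.C r) = algebraMap R C r from e), p₁.commutes,
          IsScalarTower.algebraMap_apply A R C, IsScalarTower.algebraMap_apply A R C, ← map_pow, ← map_pow,
          ← map_mul]
        exact congrArg _ h
      | add g h hg hh =>
        obtain ⟨b, m, hb⟩ := hg
        obtain ⟨b', m', hb'⟩ := hh
        refine ⟨b * algebraMap A ↥B (t ^ m') + b' * algebraMap A ↥B (t ^ m), m + m', ?_⟩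
        rw [map_add, map_add, map_mul p₁, map_mul p₁, p₁.commutes, p₁.commutes, map_pow, map_pow, ← hb, ← hb']
        ring
      | mul_X g j hg =>
        obtain ⟨b, m, hb⟩ := hg
        refine ⟨b * v.rangeRestrict (X j), m + k j, ?_⟩
        rw [map_mul, map_mul p₁, ← hb, show p₁ (v.rangeRestrict (X j)) = c j by simp [p₁, v]]
        simp only [c]
        ring
    · intro x y hxy
      have h1 : p₁ (x - y) = 0 := by rw [map_sub]; exact sub_eq_zero.2 hxy
      have h2 : algebraMap Â D (p₂ (x - y)) = 0 := by rw [← hcompat, h1, map_zero]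
      obtain ⟨⟨_, m, rfl⟩, hm⟩ := (IsLocalization.map_eq_zero_iff (Submonoid.powers (algebraMap A Â t)) D _).1 h2
      refine ⟨⟨algebraMap A ↥B (t ^ m), t ^ m, ⟨m, rfl⟩, rfl⟩, ?_⟩
      refine sub_eq_zero.1 ?_
      rw [← mul_sub]
      refine Subtype.ext (Prod.ext ?_ ?_)
      · show p₁ (algebraMap A ↥B (t ^ m) * (x - y)) = 0
        rw [map_mul, h1, mul_zero]
      · show p₂ (algebraMap A ↥B (t ^ m) * (x - y)) = 0
        rw [map_mul, p₂.commutes, map_pow]
        exact hm
  let L := Localization M
  let e : L ≃ₐ[↥B] C := IsLocalization.algEquiv M L C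
  let e' : L ≃ₐ[R] C := AlgEquiv.ofRingEquiv (f := e.toRingEquiv) fun r => by
    refine RingHom.congr_fun (f := e.toRingEquiv.toRingHom.comp (algebraMap R L)) (g := algebraMap R C) ?_ r
    refine IsLocalization.ringHom_ext (Submonoid.powers t) (RingHom.ext fun a => ?_)
    show e (algebraMap R L (algebraMap A R a)) = algebraMap R C (algebraMap A R a)
    rw [← IsScalarTower.algebraMap_apply A R C, ← IsScalarTower.algebraMap_apply A R L,
      IsScalarTower.algebraMap_apply A ↥B L, e.commutes, ← IsScalarTower.algebraMap_apply A ↥B C]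
  haveI : Algebra.Smooth R L := Algebra.Smooth.of_equiv e'.symm
  obtain ⟨τ, -⟩ := exists_approx A t hbd ↥B this 0 p₂
  have hτu : ∀ y : M, IsUnit (((algebraMap A R).comp τ.toRingHom) y) := by
    rintro ⟨_, _, ⟨m, rfl⟩, rfl⟩
    show IsUnit (algebraMap A R (τ (algebraMap A ↥B (t ^ m))))
    rw [τ.commutes, Algebra.algebraMap_self_apply, map_pow]
    exact (IsLocalization.Away.algebraMap_isUnit t).pow m
  refine ⟨IsLocalization.lift (S := C) hτu, IsLocalization.ringHom_ext (Submonoid.powers t) (RingHom.ext fun x => ?_)⟩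
  simp only [RingHom.comp_apply, RingHom.id_apply]
  rw [← IsScalarTower.algebraMap_apply A R C, IsScalarTower.algebraMap_apply A ↥B C, IsLocalization.lift_eq]
  exact congrArg (algebraMap A R) (τ.commutes x)

theorem hasSectionOver_of_torsor (A : Type u) [CommRing A] (t : A) [HenselianRing A (Ideal.span {t})]
    (hbd : ∃ N : ℕ, ∀ a : A, (∃ m : ℕ, t ^ m * a = 0) → t ^ N * a = 0)
    (G : Over (Spec (CommRingCat.of (Localization.Away t)))) [GrpObj G] [IsAffine G.left] [Smooth G.hom]
    (P : Over (Spec (CommRingCat.of (Localization.Away t)))) (a : AlgGrp.Action G P)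
    (hP : NonAbH1.IsTorsorFor Scheme.fppfPrecoverage a)
    (hsec : NonAbH1.HasSectionOver P (Spec.map (CommRingCat.ofHom
      (Localization.awayMap (algebraMap A (AdicCompletion (Ideal.span {t}) A)) t)))) :
    NonAbH1.HasSectionOver P (𝟙 (Spec (CommRingCat.of (Localization.Away t)))) := by
  obtain ⟨hps, R', hR', htriv⟩ := hP
  have hP' : NonAbH1.IsTorsorFor Scheme.fpqcPrecoverage a :=
    ⟨hps, R', Scheme.fppfPrecoverage_le_fpqcPrecoverage _ hR', htriv⟩
  haveI : IsAffineHom G.hom := isAffineHom_of_isAffine _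
  haveI : IsAffineHom P.hom := (Groth.Agent.S6004.result G P a hP').1
  haveI : Smooth P.hom := (Groth.Agent.S18860.result a hP').2.2.2.1 ‹_›
  haveI : IsAffine P.left := isAffine_of_isAffineHom P.hom
  let C : CommRingCat.{u} := Γ(P.left, ⊤)
  let g : Spec C ⟶ Spec (CommRingCat.of (Localization.Away t)) := P.left.isoSpec.inv ≫ P.hom
  let φ : CommRingCat.of (Localization.Away t) ⟶ C := Spec.preimage g
  have hφ : Spec.map φ = g := Spec.map_preimage g
  have hsm : φ.hom.Smooth := (HasRingHomProperty.Spec_iff (P := @Smooth)).1 (by rw [hφ]; infer_instance)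
  obtain ⟨s, hs⟩ := hsec
  let σ : C ⟶ CommRingCat.of (Localization.Away (algebraMap A (AdicCompletion (Ideal.span {t}) A) t)) :=
    Spec.preimage (s ≫ P.left.isoSpec.hom)
  have hσ : φ ≫ σ = CommRingCat.ofHom
      (Localization.awayMap (algebraMap A (AdicCompletion (Ideal.span {t}) A)) t) := Spec.map_injective (by
    rw [Spec.map_comp, Spec.map_preimage, hφ, Category.assoc, Iso.hom_inv_id_assoc, hs])
  letI : Algebra (Localization.Away t) C := φ.hom.toAlgebra
  haveI : Algebra.Smooth (Localization.Away t) C := RingHom.smooth_algebraMap.1 hsm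
  obtain ⟨τ, hτ⟩ := exists_retraction A t hbd C σ.hom (congrArg CommRingCat.Hom.hom hσ)
  refine ⟨Spec.map (CommRingCat.ofHom τ) ≫ P.left.isoSpec.inv, ?_⟩
  rw [Category.assoc]
  show Spec.map (CommRingCat.ofHom τ) ≫ g = _
  rw [← hφ, ← Spec.map_comp,
    show φ ≫ CommRingCat.ofHom τ = 𝟙 _ from CommRingCat.hom_ext hτ, Spec.map_id]

end ElkikTorsLib
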